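import Cfsg.Agent.Lib.JankoFour.M22Lists

/-!
Facts about M22 and the stabiliser of the pair, on permutations.
-/

set_option autoImplicit false

namespace Cfsg.Lib.JankoFour.AutM22

open Cfsg Cfsg.Lib.Concrete Cfsg.Lib.JankoFour.M22Cert
open Cfsg.Lib.FusionSys.MathieuCert (toPerm toPerm_eq pcode certM22 Cert.grp)
open Cfsg.Lib.FusionSys

/-- The representative involution. -/
noncomputable def t0 : Equiv.Perm GolayPt := toPerm invRep.1

/-- The representative of order 3. -/
noncomputable def a0 : Equiv.Perm GolayPt := toPerm transThree0.x.1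

/-- A subgroup given by a list. -/
def listGroup (L : List (ℕ × ℕ)) (h1 : (1 : Equiv.Perm GolayPt) ∈ listSet (L.map Prod.fst))
    (hm : (L.all fun a => L.all fun b => L.any fun c => prodCheck a.1 b.1 c.1) = true) :
    Subgroup (Equiv.Perm GolayPt) :=
  let S : Submonoid (Equiv.Perm GolayPt) :=
    { carrier := listSet (L.map Prod.fst)
      one_mem' := h1
      mul_mem' := by
        rintro g k ⟨p, hp, hg⟩ ⟨q, hq, hk⟩
        obtain ⟨a, ha, rfl⟩ := List.mem_map.1 hp
        obtain ⟨b, hb, rfl⟩ := List.mem_map.1 hq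
        simp only [List.all_eq_true, List.any_eq_true] at hm
        obtain ⟨c, hc, hc'⟩ := hm a ha b hb
        exact ⟨c.1, List.mem_map.2 ⟨c, hc, rfl⟩, hg.mul hk hc'⟩ }
  { S with
    inv_mem' := fun {g} hg => by
      have h : g⁻¹ = g ^ (orderOf g - 1) := by
        rw [inv_eq_iff_mul_eq_one, ← pow_succ', Nat.sub_add_cancel (orderOf_pos g), pow_orderOf_eq_one]
      show g⁻¹ ∈ S
      rw [h]
      exact pow_mem (show g ∈ S from hg) _ }

theorem elemOk_mem_Pair {e : ℕ × ℕ} (h : (elemOk e && inPair e.1) = true) : toPerm e.1 ∈ Pair := by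
  rw [Bool.and_eq_true] at h
  exact (inPair_iff (elem_spec h.1).1 (elem_spec h.1).2.1).1 h.2

theorem elemOk_mem_M22 {e : ℕ × ℕ} (h : (elemOk e && inM22 e.1) = true) : toPerm e.1 ∈ Spor.M22 := by
  rw [Bool.and_eq_true] at h
  exact (inM22_iff (elem_spec h.1).1 (elem_spec h.1).2.1).1 h.2

/-- A conjugator certificate gives a conjugation. -/
theorem wit_spec {t : ℕ × ℕ} (ht : elemOk t = true) {w : (ℕ × ℕ) × (ℕ × ℕ)} (h : witOk t.1 w = true) :
    toPerm w.2.1 ∈ Spor.M22 ∧ toPerm w.2.1 * toPerm w.1.1 * (toPerm w.2.1)⁻¹ = toPerm t.1 := by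
  simp only [witOk, Bool.and_eq_true] at h
  obtain ⟨⟨⟨h1, h2⟩, h3⟩, h4⟩ := h
  refine ⟨elemOk_mem_M22 (by simp [h2, h3]), mul_inv_eq_iff_eq_mul.2 ?_⟩
  exact (moves_iff (elem_spec h1).2.1 (elem_spec ht).2.1 (elem_spec h2).2.1).1 h4

theorem invRep_ok : elemOk invRep = true := by decide +kernel

theorem threeRep_ok : elemOk transThree0.x = true := by decide +kernel

theorem t0_mem : t0 ∈ Spor.M22 := elemOk_mem_M22 (e := invRep) (by decide +kernel)

theorem a0_mem : a0 ∈ Spor.M22 := elemOk_mem_M22 (e := transThree0.x) (by decide +kernel)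

/-- The Sylow 2-subgroup. -/
noncomputable def sylTwo : Subgroup (Equiv.Perm GolayPt) := certM22.grp

theorem hokM22 : ∀ g p, g ∈ M24 → Rep g p → inM22 p = true → g ∈ Spor.M22 := fun _ _ hg hp h =>
  (inM22_iff hg hp).1 h

theorem sylTwo_le : sylTwo ≤ Spor.M22 :=
  MathieuCert.Cert.grp_le hokM22 MathieuCert.certM22_genOK

theorem card_sylTwo : Nat.card sylTwo = 2 ^ 7 :=
  MathieuCert.Cert.card_grp hokM22 MathieuCert.certM22_genOK MathieuCert.certM22_treeOK
    MathieuCert.certM22_closedOK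

theorem sylTwo_key {g : Equiv.Perm GolayPt} (hg : g ∈ sylTwo) :
    ∃ p ∈ certM22.keys, Rep g p := by
  obtain ⟨e, he, hr⟩ := MathieuCert.Cert.key_of_mem hokM22 MathieuCert.certM22_genOK
    MathieuCert.certM22_treeOK MathieuCert.certM22_closedOK hg
  exact ⟨_, List.mem_map.2 ⟨_, he, rfl⟩, hr⟩

/-- A `p`-subgroup of M22 is conjugate into a given Sylow subgroup. -/
theorem exists_conj_le {p k : ℕ} [Fact p.Prime] {S Q : Subgroup (Equiv.Perm GolayPt)} (hS : S ≤ Spor.M22)
    (hSc : Nat.card S = p ^ k) (hk : (Nat.card ↥Spor.M22).factorization p = k)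
    (hQ : Q ≤ Spor.M22) (hQp : IsPGroup p Q) :
    ∃ c ∈ Spor.M22, ∀ g ∈ Q, c * g * c⁻¹ ∈ S := by
  have hSc' : Nat.card (S.subgroupOf Spor.M22) = p ^ k :=
    (Nat.card_congr (Subgroup.subgroupOfEquivOfLe hS).toEquiv).trans hSc
  let P : Sylow p ↥Spor.M22 := Sylow.ofCard (S.subgroupOf Spor.M22) (by rw [hSc', hk])
  obtain ⟨P', hP'⟩ := IsPGroup.exists_le_sylow
    (hQp.of_equiv (Subgroup.subgroupOfEquivOfLe hQ).symm : IsPGroup p (Q.subgroupOf Spor.M22))
  obtain ⟨c, hc⟩ := MulAction.exists_smul_eq ↥Spor.M22 P' P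
  refine ⟨c.1, c.2, fun g hg => ?_⟩
  have h1 : (⟨g, hQ hg⟩ : ↥Spor.M22) ∈ (P' : Subgroup ↥Spor.M22) := hP' (Subgroup.mem_subgroupOf.2 hg)
  have h2 : c * ⟨g, hQ hg⟩ * c⁻¹ ∈ (P : Subgroup ↥Spor.M22) := by
    rw [← hc]
    exact ⟨_, h1, rfl⟩
  exact Subgroup.mem_subgroupOf.1 h2

theorem fact_two : (Nat.card ↥Spor.M22).factorization 2 = 7 := by
  rw [card_sporM22, show (443520 : ℕ) = 2 ^ 7 * 3465 by norm_num,
    Nat.factorization_mul (by norm_num) (by norm_num), Nat.Prime.factorization_pow Nat.prime_two,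
    Finsupp.add_apply, Nat.factorization_eq_zero_of_not_dvd (by norm_num : ¬ 2 ∣ 3465)]
  simp

theorem fact_three : (Nat.card ↥Spor.M22).factorization 3 = 2 := by
  rw [card_sporM22, show (443520 : ℕ) = 3 ^ 2 * 49280 by norm_num,
    Nat.factorization_mul (by norm_num) (by norm_num), Nat.Prime.factorization_pow Nat.prime_three,
    Finsupp.add_apply, Nat.factorization_eq_zero_of_not_dvd (by norm_num : ¬ 3 ∣ 49280)]
  simp

/-- One class of involutions. -/
theorem invol_conj_rep {t : Equiv.Perm GolayPt} (ht : t ∈ Spor.M22) (h2 : orderOf t = 2) :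
    ∃ c ∈ Spor.M22, c * t * c⁻¹ = t0 := by
  obtain ⟨c, hc, hcS⟩ := exists_conj_le sylTwo_le card_sylTwo fact_two
    ((Subgroup.zpowers_le (g := t)).2 ht)
    (IsPGroup.of_card (n := 1) (by rw [Nat.card_zpowers, h2, pow_one]))
  set u := c * t * c⁻¹ with hu
  obtain ⟨p, hp, hr⟩ := sylTwo_key (hcS t (Subgroup.mem_zpowers t))
  have ho : orderOf u = 2 := by
    rw [← h2]
    exact orderOf_injective (MulAut.conj c).toMonoidHom (MulAut.conj c).injective t
  have hu2 : u * u = 1 := by rw [← pow_two, ← ho, pow_orderOf_eq_one]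
  have hu1 : u ≠ 1 := fun e => by rw [e, orderOf_one] at ho; omega
  have hk := List.all_eq_true.1 invWit_complete p hp
  simp only [Bool.or_eq_true, Bool.not_eq_true'] at hk
  rcases hk with (hk | hk) | hk
  · exfalso
    rw [← Bool.not_eq_true, List.all_eq_true] at hk
    refine hk fun i hi => ?_
    rw [Nat.beq_eq, ← hr.apply ⟨i, mem_bits24.1 hi⟩, ← hr, ← Equiv.Perm.mul_apply, hu2,
      Equiv.Perm.one_apply, gidx_gpt]
  · exfalso
    simp only [List.all_eq_true, Nat.beq_eq] at hk
    refine hu1 (Equiv.ext fun z => gidx_injective (Fin.ext ?_))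
    rw [hr, hk _ (mem_bits24.2 (gidx z).isLt), Equiv.Perm.one_apply]
  · obtain ⟨w, hw, hwp⟩ := List.any_eq_true.1 hk
    have hwk := List.all_eq_true.1 invWit_check w hw
    obtain ⟨hwM, hwe⟩ := wit_spec invRep_ok hwk
    simp only [witOk, Bool.and_eq_true] at hwk
    have hue : u = toPerm w.1.1 := (sameP_iff hr (elem_spec hwk.1.1.1).2.1).1 hwp
    refine ⟨toPerm w.2.1 * c, mul_mem hwM hc, ?_⟩
    rw [show toPerm w.2.1 * c * t * (toPerm w.2.1 * c)⁻¹ = toPerm w.2.1 * u * (toPerm w.2.1)⁻¹ by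
      rw [hu]; group, hue]
    exact hwe

/-- The squares in the normalisers of subgroups of order 5. -/
theorem t0_five : ∃ x ∈ Spor.M22, ∃ s ∈ Spor.M22,
    orderOf x = 5 ∧ s * s = t0 ∧ s * x * s⁻¹ = x ^ 2 := by
  have hx : elemOk transFive1.x = true := by decide +kernel
  have hs : elemOk fiveFour = true := by decide +kernel
  have hy : elemOk transFive2.y = true := by decide +kernel
  obtain ⟨-, hxr, -, -⟩ := elem_spec hx
  obtain ⟨-, hsr, -, -⟩ := elem_spec hs
  have hpow : toPerm transFive1.x.1 ^ 2 = toPerm transFive2.y.1 := by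
    refine Equiv.ext fun z => gidx_injective (Fin.ext ?_)
    rw [MathieuBlock.piter_rep hxr, (elem_spec hy).2.1]
    exact Nat.eq_of_beq_eq_true (List.all_eq_true.1 (show (bits24.all fun i =>
      Nat.beq (piter transFive1.x.1 2 i) (pget transFive2.y.1 i)) = true by decide +kernel) _
        (mem_bits24.2 (gidx z).isLt))
  refine ⟨_, elemOk_mem_M22 (e := transFive1.x) (by decide +kernel), _,
    elemOk_mem_M22 (e := fiveFour) (by decide +kernel), ?_, ?_, mul_inv_eq_iff_eq_mul.2 ?_⟩
  · haveI : Fact (Nat.Prime 5) := ⟨by norm_num⟩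
    refine orderOf_eq_prime (Equiv.ext fun z => gidx_injective (Fin.ext ?_)) fun e => ?_
    · rw [MathieuBlock.piter_rep hxr, Equiv.Perm.one_apply]
      exact Nat.eq_of_beq_eq_true (List.all_eq_true.1 (show (bits24.all fun i =>
        Nat.beq (piter transFive1.x.1 5 i) i) = true by decide +kernel) _ (mem_bits24.2 (gidx z).isLt))
    · exact absurd ((sameP_iff hxr rep_one).2 e) (by decide +kernel)
  · exact (hsr.mul hsr (show prodCheck fiveFour.1 fiveFour.1 invRep.1 = true by decide +kernel)).ext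
      (elem_spec invRep_ok).2.1
  · rw [hpow]
    exact (moves_iff hxr (elem_spec hy).2.1 hsr).1 (by decide +kernel)

/-- An element of order 3 and an involution inverting it, centralizing the involution. -/
theorem t0_three : ∃ x ∈ Spor.M22, ∃ u ∈ Spor.M22,
    orderOf x = 3 ∧ orderOf u = 2 ∧ u * x * u⁻¹ = x⁻¹ ∧ Commute t0 x ∧ Commute t0 u := by
  have hx : elemOk invThree.1 = true := by decide +kernel
  have hu : elemOk invThree.2 = true := by decide +kernel
  obtain ⟨-, hxr, hxi, -⟩ := elem_spec hx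
  obtain ⟨-, hur, -, -⟩ := elem_spec hu
  obtain ⟨-, htr, -, -⟩ := elem_spec invRep_ok
  refine ⟨_, elemOk_mem_M22 (e := invThree.1) (by decide +kernel), _,
    elemOk_mem_M22 (e := invThree.2) (by decide +kernel), ?_, ?_, mul_inv_eq_iff_eq_mul.2 ?_, ?_, ?_⟩
  · refine orderOf_eq_prime (Equiv.ext fun z => gidx_injective (Fin.ext ?_)) fun e => ?_
    · rw [MathieuBlock.piter_rep hxr, Equiv.Perm.one_apply]
      exact Nat.eq_of_beq_eq_true (List.all_eq_true.1 (show (bits24.all fun i =>
        Nat.beq (piter invThree.1.1 3 i) i) = true by decide +kernel) _ (mem_bits24.2 (gidx z).isLt))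
    · exact absurd ((sameP_iff hxr rep_one).2 e) (by decide +kernel)
  · refine orderOf_eq_prime (Equiv.ext fun z => gidx_injective (Fin.ext ?_)) fun e => ?_
    · rw [MathieuBlock.piter_rep hur, Equiv.Perm.one_apply]
      exact Nat.eq_of_beq_eq_true (List.all_eq_true.1 (show (bits24.all fun i =>
        Nat.beq (piter invThree.2.1 2 i) i) = true by decide +kernel) _ (mem_bits24.2 (gidx z).isLt))
    · exact absurd ((sameP_iff hur rep_one).2 e) (by decide +kernel)
  · exact (moves_iff hxr hxi hur).1 (by decide +kernel)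
  · exact ((moves_iff hxr hxr htr).1 (by decide +kernel))
  · exact ((moves_iff hur hur htr).1 (by decide +kernel))

/-- Pairwise commuting sets among a list have bounded size (first argument: fuel). -/
def cliqueLE : ℕ → ℕ → List ℕ → Bool
  | 0, _, L => L.isEmpty
  | _ + 1, _, [] => true
  | _ + 1, 0, _ :: _ => false
  | f + 1, n + 1, p :: r =>
    cliqueLE f n (r.filter fun q => moves p p q) && cliqueLE f (n + 1) r

theorem cliqueLE_spec : ∀ (f n : ℕ) (L : List ℕ), cliqueLE f n L = true →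
    ∀ E : Set (Equiv.Perm GolayPt), (∀ g ∈ E, ∀ h ∈ E, Commute g h) →
      (∀ g ∈ E, ∃ p ∈ L, Rep g p) → E.ncard ≤ n
  | 0, n, L, h, E, _, hE => by
    have : E = ∅ := Set.eq_empty_of_forall_notMem fun g hg => by
      obtain ⟨p, hp, -⟩ := hE g hg
      simp only [cliqueLE, List.isEmpty_iff] at h
      simp [h] at hp
    simp [this]
  | _ + 1, n, [], _, E, _, hE => by
    have : E = ∅ := Set.eq_empty_of_forall_notMem fun g hg => by
      obtain ⟨p, hp, -⟩ := hE g hg
      exact absurd hp List.not_mem_nil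
    simp [this]
  | _ + 1, 0, _ :: _, h, E, _, _ => by simp [cliqueLE] at h
  | f + 1, n + 1, p :: r, h, E, hc, hE => by
    simp only [cliqueLE, Bool.and_eq_true] at h
    by_cases hp : ∃ g ∈ E, Rep g p
    · obtain ⟨g, hg, hgp⟩ := hp
      have h1 := cliqueLE_spec f n _ h.1 (E \ {g}) (fun x hx y hy => hc x hx.1 y hy.1) (fun x hx => by
        obtain ⟨q, hq, hxq⟩ := hE x hx.1
        rcases List.mem_cons.1 hq with rfl | hq
        · exact absurd (hxq.ext hgp) hx.2
        · exact ⟨q, List.mem_filter.2 ⟨hq, (moves_iff hgp hgp hxq).2 (hc x hx.1 g hg)⟩, hxq⟩)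
      rw [Set.ncard_diff_singleton_of_mem hg] at h1
      omega
    · exact cliqueLE_spec f (n + 1) r h.2 E hc fun x hx => by
        obtain ⟨q, hq, hxq⟩ := hE x hx
        rcases List.mem_cons.1 hq with rfl | hq
        · exact absurd ⟨x, hx, hxq⟩ hp
        · exact ⟨q, hq, hxq⟩


/-- Elementary abelian 2-subgroups of M22 have order at most 16. -/
theorem elem_le_sixteen {E : Subgroup (Equiv.Perm GolayPt)} (hE : E ≤ Spor.M22)
    (h2 : ∀ a ∈ E, a * a = 1) (hc : ∀ a ∈ E, ∀ b ∈ E, Commute a b) : Nat.card E ≤ 16 := by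
  have hp : IsPGroup 2 E := fun g => ⟨1, Subtype.ext (by simpa [pow_two] using h2 g.1 g.2)⟩
  obtain ⟨c, hcM, hcS⟩ := exists_conj_le sylTwo_le card_sylTwo fact_two hE hp
  set f : Equiv.Perm GolayPt → Equiv.Perm GolayPt := fun g => c * g * c⁻¹
  have hf : Function.Injective f := (MulAut.conj c).injective
  have h := cliqueLE_spec 40 15 _
    (show cliqueLE 40 15 (invWit.map fun w => w.1.1) = true by decide +kernel)
    (f '' ((E : Set (Equiv.Perm GolayPt)) \ {1})) (by
      rintro _ ⟨a, ha, rfl⟩ _ ⟨b, hb, rfl⟩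
      exact (hc a ha.1 b hb.1).map (MulAut.conj c).toMonoidHom) (by
      rintro _ ⟨g, hg, rfl⟩
      obtain ⟨p, hp', hr⟩ := sylTwo_key (hcS g hg.1)
      have hk := List.all_eq_true.1 invWit_complete p hp'
      simp only [Bool.or_eq_true, Bool.not_eq_true'] at hk
      have hu2 : f g * f g = 1 := by
        show c * g * c⁻¹ * (c * g * c⁻¹) = 1
        rw [show c * g * c⁻¹ * (c * g * c⁻¹) = c * (g * g) * c⁻¹ by group, h2 g hg.1]
        group
      rcases hk with (hk | hk) | hk
      · exfalso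
        rw [← Bool.not_eq_true, List.all_eq_true] at hk
        refine hk fun i hi => ?_
        rw [Nat.beq_eq, ← hr.apply ⟨i, mem_bits24.1 hi⟩, ← hr, ← Equiv.Perm.mul_apply, hu2,
          Equiv.Perm.one_apply, gidx_gpt]
      · exfalso
        simp only [List.all_eq_true, Nat.beq_eq] at hk
        refine hg.2 (hf (Equiv.ext fun z => gidx_injective (Fin.ext ?_)))
        show (gidx ((c * g * c⁻¹) z)).val = (gidx ((c * 1 * c⁻¹) z)).val
        rw [hr, hk _ (mem_bits24.2 (gidx z).isLt), mul_one, mul_inv_cancel, Equiv.Perm.one_apply]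
      · obtain ⟨w, hw, hwp⟩ := List.any_eq_true.1 hk
        have hwk := List.all_eq_true.1 invWit_check w hw
        simp only [witOk, Bool.and_eq_true] at hwk
        have hue : f g = toPerm w.1.1 := (sameP_iff hr (elem_spec hwk.1.1.1).2.1).1 hwp
        exact ⟨w.1.1, List.mem_map.2 ⟨w, hw, rfl⟩, hue ▸ (elem_spec hwk.1.1.1).2.1⟩)
  rw [Set.ncard_image_of_injective _ hf, Set.ncard_sdiff_singleton_of_mem (one_mem E),
    ← Nat.card_coe_set_eq] at h
  change Nat.card E - 1 ≤ 15 at h
  omega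

theorem threeSylow_one : (1 : Equiv.Perm GolayPt) ∈ listSet (threeSylow.map Prod.fst) :=
  ⟨Cfsg.Lib.Concrete.pId, by decide +kernel, rep_one⟩

/-- The Sylow 3-subgroup. -/
def threeR : Subgroup (Equiv.Perm GolayPt) := listGroup threeSylow threeSylow_one (by decide +kernel)

/-- A subgroup of order 8 in the centralizer of the element of order 3. -/
def threeD : Subgroup (Equiv.Perm GolayPt) :=
  listGroup threeDih ⟨Cfsg.Lib.Concrete.pId, by decide +kernel, rep_one⟩ (by decide +kernel)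

theorem listGroup_card {L : List (ℕ × ℕ)} {h1 hm} (hL : L.all elemOk = true)
    (hnd : (L.map Prod.fst).Nodup) : Nat.card (listGroup L h1 hm) = L.length := by
  show Nat.card ↥(listSet (L.map Prod.fst)) = L.length
  rw [Nat.card_coe_set_eq, ncard_listSet hnd fun p hp => ?_, List.length_map]
  obtain ⟨e, he, rfl⟩ := List.mem_map.1 hp
  exact ⟨e.2, List.all_eq_true.1 hL e he⟩

theorem listGroup_forall {L : List (ℕ × ℕ)} {h1 hm} {P : Equiv.Perm GolayPt → Prop} (f : ℕ → Bool)
    (hf : ∀ g p, Rep g p → f p = true → P g) (h : (L.map Prod.fst).all f = true)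
    {g : Equiv.Perm GolayPt} (hg : g ∈ listGroup L h1 hm) : P g := by
  obtain ⟨p, hp, hr⟩ := hg
  exact hf g p hr (List.all_eq_true.1 h p hp)

theorem listSet_le_M22 {L : List (ℕ × ℕ)} (hL : (L.all fun e => elemOk e && inM22 e.1) = true)
    {g : Equiv.Perm GolayPt} (hg : g ∈ listSet (L.map Prod.fst)) : g ∈ Spor.M22 := by
  obtain ⟨p, hp, hr⟩ := hg
  obtain ⟨e, he, rfl⟩ := List.mem_map.1 hp
  rw [← toPerm_eq hr]
  exact elemOk_mem_M22 (List.all_eq_true.1 hL e he)

theorem threeR_le : threeR ≤ Spor.M22 := fun _ hg => listSet_le_M22 (by decide +kernel) hg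

theorem card_threeR : Nat.card threeR = 9 := listGroup_card (by decide +kernel) (by decide +kernel)

theorem card_threeD : Nat.card threeD = 8 := listGroup_card (by decide +kernel) (by decide +kernel)

theorem threeR_comm {g h : Equiv.Perm GolayPt} (hg : g ∈ threeR) (hh : h ∈ threeR) : Commute g h := by
  obtain ⟨p, hp, hgr⟩ := hg
  obtain ⟨q, hq, hhr⟩ := hh
  have hk : ((threeSylow.map Prod.fst).all fun p => (threeSylow.map Prod.fst).all fun q =>
      moves q q p) = true := by decide +kernel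
  exact (moves_iff hhr hhr hgr).1 (List.all_eq_true.1 (List.all_eq_true.1 hk p hp) q hq)

theorem threeR_cube {g : Equiv.Perm GolayPt} (hg : g ∈ threeR) : g ^ 3 = 1 :=
  listGroup_forall (fun p => bits24.all fun i => Nat.beq (piter p 3 i) i)
    (P := fun g => g ^ 3 = 1) (fun g p hr h => Equiv.ext fun z => gidx_injective (Fin.ext (by
      rw [MathieuBlock.piter_rep hr, Equiv.Perm.one_apply]
      exact Nat.eq_of_beq_eq_true (List.all_eq_true.1 h _ (mem_bits24.2 (gidx z).isLt)))))
    (by decide +kernel) hg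

theorem threeD_not_comm : ∃ a ∈ threeD, ∃ b ∈ threeD, ¬ Commute a b := by
  have hk : (threeDih.any fun a => threeDih.any fun b => !(moves b.1 b.1 a.1)) = true := by decide +kernel
  obtain ⟨a, ha, hk⟩ := List.any_eq_true.1 hk
  obtain ⟨b, hb, hk⟩ := List.any_eq_true.1 hk
  have hL : threeDih.all elemOk = true := by decide +kernel
  obtain ⟨-, har, -, -⟩ := elem_spec (List.all_eq_true.1 hL a ha)
  obtain ⟨-, hbr, -, -⟩ := elem_spec (List.all_eq_true.1 hL b hb)
  refine ⟨toPerm a.1, ⟨a.1, List.mem_map.2 ⟨a, ha, rfl⟩, har⟩, toPerm b.1,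
    ⟨b.1, List.mem_map.2 ⟨b, hb, rfl⟩, hbr⟩, fun hc => ?_⟩
  rw [(moves_iff hbr hbr har).2 hc] at hk
  exact absurd hk (by decide)

theorem threeD_le {g : Equiv.Perm GolayPt} (hg : g ∈ threeD) : g ∈ Pair ∧ g * a0 = a0 * g := by
  obtain ⟨p, hp, hr⟩ := hg
  obtain ⟨e, he, rfl⟩ := List.mem_map.1 hp
  have hk : (threeDih.all fun e => elemOk e && inPair e.1 &&
      moves transThree0.x.1 transThree0.x.1 e.1) = true := by decide +kernel
  have h := List.all_eq_true.1 hk e he
  rw [Bool.and_eq_true] at h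
  refine ⟨toPerm_eq hr ▸ elemOk_mem_Pair h.1, ?_⟩
  exact (moves_iff (elem_spec threeRep_ok).2.1 (elem_spec threeRep_ok).2.1 hr).1 h.2

/-- The centralizer of an element of order 3. -/
theorem ncard_cent_three : {g : Equiv.Perm GolayPt | g ∈ Pair ∧ g * a0 = a0 * g}.ncard = 72 := by
  have h := TransCert.ncard_eq (c := transThree0) (List.all_eq_true.1 transThrees_check _ (by simp [transThrees]))
  exact h

theorem ncard_cent_three_M22 :
    {g : Equiv.Perm GolayPt | g ∈ Pair ∧ g * a0 = a0 * g ∧ g ∈ Spor.M22}.ncard = 36 := by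
  have hc := List.all_eq_true.1 transThrees_check transThree0 (by simp [transThrees])
  have h := transUnion (L := [transThree0]) (x := transThree0.x.1) (by simp [hc])
    (by simp) inM22 (fun g => g ∈ Spor.M22)
    (fun g p hg hr => inM22_iff hg.1 hr) (by decide +kernel)
  rw [show (([transThree0].flatMap TransCert.keys).filter inM22).length = 36 by decide +kernel] at h
  rw [← h]
  congr 1
  ext g
  simp [a0]
  exact fun _ _ => Iff.rfl

/-- The packed conjugation maps the Sylow 3-subgroup to itself. -/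
def normR (p : ℕ) : Bool :=
  threeSylow.all fun r => threeSylow.any fun r' => moves r.1 r'.1 p

theorem normR_iff {g : Equiv.Perm GolayPt} {p : ℕ} (hr : Rep g p) :
    normR p = true ↔ ∀ h ∈ threeR, g * h * g⁻¹ ∈ threeR := by
  have hL : threeSylow.all elemOk = true := by decide +kernel
  simp only [normR, List.all_eq_true, List.any_eq_true]
  constructor
  · rintro h x ⟨q, hq, hxr⟩
    obtain ⟨r, hrm, rfl⟩ := List.mem_map.1 hq
    obtain ⟨r', hr', hm⟩ := h r hrm
    obtain ⟨-, hr'r, -, -⟩ := elem_spec (List.all_eq_true.1 hL r' hr')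
    refine ⟨r'.1, List.mem_map.2 ⟨r', hr', rfl⟩, ?_⟩
    rwa [mul_inv_eq_iff_eq_mul.2 ((moves_iff hxr hr'r hr).1 hm)]
  · intro h r hrm
    obtain ⟨-, hrr, -, -⟩ := elem_spec (List.all_eq_true.1 hL r hrm)
    obtain ⟨q, hq, hqr⟩ := h _ ⟨r.1, List.mem_map.2 ⟨r, hrm, rfl⟩, hrr⟩
    obtain ⟨r', hr', rfl⟩ := List.mem_map.1 hq
    refine ⟨r', hr', (moves_iff hrr hqr hr).2 ?_⟩
    group

/-- The normaliser of the Sylow 3-subgroup. -/
theorem ncard_norm_threeR :
    {g : Equiv.Perm GolayPt | g ∈ Pair ∧ ∀ h ∈ threeR, g * h * g⁻¹ ∈ threeR}.ncard = 144 := by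
  have h := transUnion (L := transThrees) (x := transThree0.x.1) transThrees_check (by decide +kernel)
    normR (fun g => ∀ h ∈ threeR, g * h * g⁻¹ ∈ threeR) (fun g p _ hr => normR_iff hr)
    (by decide +kernel)
  rw [show ((transThrees.flatMap TransCert.keys).filter normR).length = 144 by decide +kernel] at h
  rw [← h]
  congr 1
  ext g
  constructor
  · rintro ⟨hg, hn⟩
    refine ⟨hg, ?_, hn⟩
    have ha : a0 ∈ threeR :=
      ⟨transThree0.x.1, by decide +kernel, (elem_spec threeRep_ok).2.1⟩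
    obtain ⟨q, hq, hqr⟩ := hn a0 ha
    have hk : ((threeSylow.map Prod.fst).all fun q => sameP q Cfsg.Lib.Concrete.pId ||
        transThrees.any fun c => sameP q c.y.1) = true := by decide +kernel
    have hk' := List.all_eq_true.1 hk q hq
    rw [Bool.or_eq_true] at hk'
    rcases hk' with hk' | hk'
    · have e := (sameP_iff hqr rep_one).1 hk'
      rw [conj_eq_one_iff] at e
      exact absurd ((sameP_iff (elem_spec threeRep_ok).2.1 rep_one).2 e) (by decide +kernel)
    · obtain ⟨c, hc, hcy⟩ := List.any_eq_true.1 hk'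
      have hy := TransCert.check_y (List.all_eq_true.1 transThrees_check c hc)
      have e := (sameP_iff hqr (elem_spec hy).2.1).1 hcy
      exact ⟨c, hc, mul_inv_eq_iff_eq_mul.1 e⟩
  · rintro ⟨hg, -, hn⟩
    exact ⟨hg, hn⟩

/-- Every element of order 3 of M22 is conjugate to the representative. -/
theorem three_conj_rep {x : Equiv.Perm GolayPt} (hx : x ∈ Spor.M22) (h3 : orderOf x = 3) :
    ∃ c ∈ Spor.M22, c * x * c⁻¹ = a0 := by
  haveI : Fact (Nat.Prime 3) := ⟨Nat.prime_three⟩
  obtain ⟨c, hc, hcR⟩ := exists_conj_le threeR_le (p := 3) (k := 2) card_threeR fact_three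
    ((Subgroup.zpowers_le (g := x)).2 hx)
    (IsPGroup.of_card (n := 1) (by rw [Nat.card_zpowers, h3, pow_one]))
  obtain ⟨q, hq, hqr⟩ := hcR x (Subgroup.mem_zpowers x)
  have hk : ((threeSylow.map Prod.fst).all fun q => sameP q Cfsg.Lib.Concrete.pId ||
      threeWit.any fun w => sameP q w.1.1) = true := by decide +kernel
  have hk' := List.all_eq_true.1 hk q hq
  rw [Bool.or_eq_true] at hk'
  rcases hk' with hk' | hk'
  · have e := (sameP_iff hqr rep_one).1 hk'
    rw [conj_eq_one_iff] at e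
    rw [e, orderOf_one] at h3
    omega
  · obtain ⟨w, hw, hwq⟩ := List.any_eq_true.1 hk'
    have hwk := List.all_eq_true.1 threeWit_check w hw
    obtain ⟨hwM, hwe⟩ := wit_spec threeRep_ok hwk
    simp only [witOk, Bool.and_eq_true] at hwk
    have e : c * x * c⁻¹ = toPerm w.1.1 := (sameP_iff hqr (elem_spec hwk.1.1.1).2.1).1 hwq
    refine ⟨toPerm w.2.1 * c, mul_mem hwM hc, ?_⟩
    rw [show toPerm w.2.1 * c * x * (toPerm w.2.1 * c)⁻¹ = toPerm w.2.1 * (c * x * c⁻¹) * (toPerm w.2.1)⁻¹ by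
      group, e]
    exact hwe

end Cfsg.Lib.JankoFour.AutM22
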