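import Mathlib.Init

/-!
# Permutations, in packed form, around the hexad group of M22 used for groups of Janko-four type
-/

set_option autoImplicit false

namespace Cfsg.Lib.JankoFour.HexCert

/-- An element moving the hexad group to one meeting it trivially. -/
def moveG : Nat × Nat := (980704186896875194539746040645533120, 970288535801014932938680064972800224)

/-- An element of order five normalizing the hexad group. -/
def normFive : Nat × Nat := (976907664819378282253799547333817568, 963480598718070443220930876056936928)

/-- Four outer involutions normalizing both groups. -/
def outerS : List (Nat × Nat) := [
   (21159163873795149579542675899648055, 21159163873795149579542675899648055),
   (6055071181017011428787402404464695, 6055071181017011428787402404464695),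
   (29435054332390770812827795389188631, 29435054332390770812827795389188631),
   (29273348587670521743633130556077111, 29273348587670521743633130556077111)]

/-- Elements conjugating the first one to the others. -/
def outerH : List (Nat × Nat) := [
   (984818244535754528103549039458486304, 984818244535754528103549039458486304),
   (9585145819817917610568577157859383, 18354835767322842859451607319906359),
   (976530062565769605629573659893487680, 958435731349694019025188844616320512),
   (16032588115976205633773249695596599, 10959373651929046161580228577898551)]

/-- Elements of the normalizer moving the members of the hexad group. -/
def normWit : List (Nat × Nat) := [
   (984818244535754528103549039458486304, 984818244535754528103549039458486304),
   (976770530185330033226972705348171104, 979454361458130503001142467305360480),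
   (957435755666166353336394554087290368, 960964906384814307313382705857017536),
   (977574893564932378380324664462415328, 979170850161963977540750926042288576),
   (961227291315714117435904367904077152, 969807544373375699269395909672489408),
   (973742532168006813533980967971653664, 963790476910214406197792821137115168),
   (969848002480999827876065682846634272, 971327942774521420427309080452109760),
   (967640311443815436915203457263489344, 977858842308960879342733090441639040),
   (965053739553607672707020521649918240, 967189739365546733741270886074622304),
   (957421547023184457271506990645381408, 979129745393072152468943617273596608),
   (976907664819378282253799547333817568, 963480598718070443220930876056936928),
   (963782878440480362010384417359765952, 969848107870430297795078540538139008),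
   (964738083378310268441854591061074368, 971269148009449376101785261913388608),
   (960983632450747139736655996825179584, 964972600913103268191623492168667616),
   (979156677991273334551527065189338336, 973927189781016382379152767730438464)]

/-- Two members of the group of order nine and involutions they centralize. -/
def nineFix : List Nat := [959730206793793533184658256045744416, 969709156105333750316308025846543808, 967699887815422844247907960623761856, 959546351950136666614391865463212256]

/-- The central involution of the Sylow 2-subgroup of M22. -/
def sylCentre : Nat := 957112457953793621141885569063946944

/-- Words in involutions for the generators of the Sylow 2-subgroup of M22. -/
def sylWords : List (List Nat) := [
   [976664704469768708257102621150906496],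
   [967699887815422844247907960623761856],
   [974027984896326309032851386650724640],
   [984555825605089698432431076887901216],
   [984433695522452451222587287024404512],
   [984433695522452451222587287024404512, 984389775965797844819276082654203936],
   [979179303860389796141219522509255872, 984363140085273155288445662158951456, 977638263056307851044960616645429632]]

end Cfsg.Lib.JankoFour.HexCert
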