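import Cfsg.Agent.Lib.JankoFour.HexData
import Cfsg.Agent.Lib.JankoFour.AutM22.HexLists
import Cfsg.Agent.Lib.JankoFourLocal.Certs

/-!
# The hexad data in the automorphism group of M22
-/

set_option autoImplicit false

namespace Cfsg.Lib.JankoFour.AutM22

open Cfsg Cfsg.Lib.Concrete Cfsg.Lib.JankoFour.M22Cert Cfsg.Lib.JankoFour.LocalCert
open Cfsg.Lib.JankoFour.HexCert
open Cfsg.Lib.FusionSys.MathieuCert (toPerm toPerm_eq prodL prodLOK rep_prodL)

/-- The automorphism of a permutation of the stabilizer of the pair. -/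
noncomputable def autOf (g : Equiv.Perm GolayPt) : A22 :=
  open Classical in if h : g ∈ Pair then pairEquiv ⟨g, h⟩ else 1

theorem perm_autOf {g : Equiv.Perm GolayPt} (hg : g ∈ Pair) : perm (autOf g) = g := by
  rw [autOf, dif_pos hg, perm_pairEquiv]

/-- Members of a list of certified elements of the pair stabilizer. -/
theorem autOf_list {L : List (ℕ × ℕ)} (hL : (L.all fun e => elemOk e && inPair e.1) = true) {e : ℕ × ℕ}
    (he : e ∈ L) : perm (autOf (toPerm e.1)) = toPerm e.1 ∧ Rep (toPerm e.1) e.1 := by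
  have h := List.all_eq_true.1 hL e he
  refine ⟨perm_autOf (elemOk_mem_Pair h), rep_fst ?_⟩
  rw [Bool.and_eq_true] at h
  exact h.1

/-- Two words differ. -/
def wordNe (L M : List ℕ) : Bool := prodLOK L && prodLOK M && !sameP (prodL L) (prodL M)

theorem word_ne {L M : List ℕ} (hL : ∀ a ∈ L, Rep (toPerm a) a) (hM : ∀ a ∈ M, Rep (toPerm a) a)
    (h : wordNe L M = true) : (L.map toPerm).prod ≠ (M.map toPerm).prod := by
  simp only [wordNe, Bool.and_eq_true, Bool.not_eq_true'] at h
  intro e
  rw [(sameP_iff (rep_prodL hL h.1.1).1 (rep_prodL hM h.1.2).1).2 e] at h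
  exact Bool.noConfusion h.2

/-- The list of all elements used. -/
def hexAll : List (ℕ × ℕ) := moveG :: normFive :: outerS ++ outerH ++ normWit ++ sixteenList ++ nineList

theorem hexAll_ok : (hexAll.all fun e => elemOk e && inPair e.1) = true := by decide +kernel

theorem hexAll_rep {e : ℕ × ℕ} (he : e ∈ hexAll) : Rep (toPerm e.1) e.1 := (autOf_list hexAll_ok he).2

theorem hexAll_perm {e : ℕ × ℕ} (he : e ∈ hexAll) : perm (autOf (toPerm e.1)) = toPerm e.1 :=
  (autOf_list hexAll_ok he).1

theorem mem_sixteen {e : ℕ × ℕ} (he : e ∈ sixteenList) : e ∈ hexAll :=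
  List.mem_append_left _ (List.mem_append_right _ he)

theorem mem_wit {e : ℕ × ℕ} (he : e ∈ normWit) : e ∈ hexAll :=
  List.mem_append_left _ (List.mem_append_left _ (List.mem_append_right _ he))

theorem outerH_mem {e : ℕ × ℕ} (he : e ∈ outerH) : e ∈ hexAll :=
  List.mem_append_left _ (List.mem_append_left _ (List.mem_append_left _ (List.mem_append_right _ he)))

theorem mem_nine {e : ℕ × ℕ} (he : e ∈ nineList) : e ∈ hexAll := List.mem_append_right _ he

/-- The hexad group. -/
noncomputable def hexT : Subgroup A22 := sixteenT.comap perm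

/-- The moving element. -/
noncomputable def hexG : A22 := autOf (toPerm moveG.1)

theorem g_mem_all : moveG ∈ hexAll := by simp [hexAll]

theorem five_mem_all : normFive ∈ hexAll := by simp [hexAll]

/-- An outer involution. -/
def outerAt (i : Fin 4) : ℕ × ℕ := outerS.getD i.val (0, 0)

theorem outerAt_mem (i : Fin 4) : outerAt i ∈ outerS := by revert i; decide +kernel

theorem outer_mem_all (i : Fin 4) : outerAt i ∈ hexAll :=
  List.mem_append_left _ (List.mem_append_left _ (List.mem_append_left _ (List.mem_append_left _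
    (List.mem_cons_of_mem _ (List.mem_cons_of_mem _ (outerAt_mem i))))))

/-- An outer involution, as an automorphism. -/
noncomputable def hexS (i : Fin 4) : A22 := autOf (toPerm (outerAt i).1)

theorem perm_hexS (i : Fin 4) : perm (hexS i) = toPerm (outerAt i).1 := hexAll_perm (outer_mem_all i)

theorem exists_sixteen {a : A22} (ha : a ∈ hexT) : ∃ e ∈ sixteenList, perm a = toPerm e.1 := by
  obtain ⟨p, hp, hr⟩ := ha
  obtain ⟨e, he, rfl⟩ := List.mem_map.1 hp
  exact ⟨e, he, (toPerm_eq hr).symm⟩

theorem hexT_of_word {w : List (ℕ × ℕ)} (hw : ∀ x ∈ w, x ∈ hexAll) {a : A22}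
    (ha : perm a = ((w.map Prod.fst).map toPerm).prod)
    (h : (sixteenList.any fun e => wordEq (w.map Prod.fst) [e.1]) = true) : a ∈ hexT := by
  obtain ⟨e, he, hwe⟩ := List.any_eq_true.1 h
  have := word_eq (fun x hx => by obtain ⟨y, hy, rfl⟩ := List.mem_map.1 hx; exact hexAll_rep (hw y hy))
    (by simp [hexAll_rep (mem_sixteen he)]) hwe
  refine ⟨e.1, List.mem_map.2 ⟨e, he, rfl⟩, ?_⟩
  rw [ha, this]
  simpa using hexAll_rep (mem_sixteen he)

/-- Conjugation by an element keeps the hexad group. -/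
theorem hexT_conj {x : ℕ × ℕ} (hx : x ∈ hexAll) (h : mapsTo x sixteenList sixteenList = true)
    (hxe : elemOk x = true) {a : A22} (ha : a ∈ hexT) :
    autOf (toPerm x.1) * a * (autOf (toPerm x.1))⁻¹ ∈ hexT := by
  have hL : sixteenList.all elemOk = true := by decide +kernel
  show perm _ ∈ sixteenT
  rw [map_mul, map_mul, map_inv, hexAll_perm hx]
  exact mapsTo_spec hxe hL hL h ha

/-- The words `x g a` and `g b x` agree for a suitable `b`. -/
def moveOk (x : ℕ × ℕ) : Bool :=
  sixteenList.all fun a => sixteenList.any fun b => wordEq [x.1, moveG.1, a.1] [moveG.1, b.1, moveG.2, x.1, moveG.1]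

theorem moveG_ok : elemOk moveG = true := by decide +kernel

theorem move_spec {x : ℕ × ℕ} (hx : x ∈ hexAll) (h : moveOk x = true) {a : A22} (ha : a ∈ hexT) :
    hexG⁻¹ * (autOf (toPerm x.1) * (hexG * a * hexG⁻¹) * (autOf (toPerm x.1))⁻¹) * hexG ∈ hexT := by
  obtain ⟨e, he, hea⟩ := exists_sixteen ha
  obtain ⟨b, hb, hw⟩ := List.any_eq_true.1 (List.all_eq_true.1 h e he)
  have hg := hexAll_rep g_mem_all
  have hg' : Rep (toPerm moveG.2) moveG.2 := rep_snd moveG_ok
  have hw' := word_eq (L := [x.1, moveG.1, e.1]) (M := [moveG.1, b.1, moveG.2, x.1, moveG.1])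
    (by simp [hexAll_rep hx, hg, hexAll_rep (mem_sixteen he)])
    (by simp [hexAll_rep hx, hg, hg', hexAll_rep (mem_sixteen hb)]) hw
  simp only [List.map_cons, List.map_nil, List.prod_cons, List.prod_nil, mul_one, toPerm_snd moveG_ok,
    ← mul_assoc] at hw'
  refine ⟨b.1, List.mem_map.2 ⟨b, hb, rfl⟩, ?_⟩
  rw [map_mul, map_mul, map_mul, map_mul, map_mul, map_mul, map_inv, map_inv, hexG, hexAll_perm g_mem_all,
    hexAll_perm hx, hea]
  convert hexAll_rep (mem_sixteen hb) using 2
  rw [show ∀ g y t : Equiv.Perm GolayPt, g⁻¹ * (y * (g * t * g⁻¹) * y⁻¹) * g = g⁻¹ * (y * g * t) * g⁻¹ * y⁻¹ * g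
    from fun g y t => by group, hw']
  group

theorem five_order : orderOf (autOf (toPerm normFive.1)) = 5 := by
  rw [← orderOf_perm, hexAll_perm five_mem_all]
  exact orderOf_prime_rep (hexAll_rep five_mem_all) (by norm_num) (by decide +kernel) (by decide +kernel)

/-- Every member is a conjugate of every other in the normalizer. -/
def transOk : Bool :=
  sixteenList.all fun a => sixteenList.all fun b => sameP a.1 pId || sameP b.1 pId ||
    (normWit.any fun h => normWit.any fun k => sixteenList.any fun c =>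
      wordEq [h.1, c.1] [a.1, h.1] && wordEq [k.1, c.1] [b.1, k.1])

theorem transOk_check : transOk = true := by decide +kernel

theorem wit_check : (normWit.all fun h => inM22 h.1 && mapsTo h sixteenList sixteenList) = true := by
  decide +kernel

theorem wit_spec' {h : ℕ × ℕ} (hh : h ∈ normWit) :
    autOf (toPerm h.1) ∈ inner ∧ ∀ t ∈ hexT, autOf (toPerm h.1) * t * (autOf (toPerm h.1))⁻¹ ∈ hexT := by
  have hc := List.all_eq_true.1 wit_check h hh
  rw [Bool.and_eq_true] at hc
  have he := List.all_eq_true.1 hexAll_ok h (mem_wit hh)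
  rw [Bool.and_eq_true] at he
  refine ⟨mem_inner_iff.2 ?_, fun t ht => hexT_conj (mem_wit hh) hc.2 he.1 ht⟩
  rw [hexAll_perm (mem_wit hh)]
  exact elemOk_mem_M22 (by simp [he.1, hc.1])

theorem hex_trans {a : A22} (ha : a ∈ hexT) (ha1 : a ≠ 1) {b : A22} (hb : b ∈ hexT) (hb1 : b ≠ 1) :
    ∃ h ∈ inner, (∀ t ∈ hexT, h * t * h⁻¹ ∈ hexT) ∧ h * a * h⁻¹ = b := by
  obtain ⟨e, he, hea⟩ := exists_sixteen ha
  obtain ⟨f, hf, hfb⟩ := exists_sixteen hb
  have hne : ∀ {x : A22} {q : ℕ × ℕ}, q ∈ sixteenList → x ≠ 1 → perm x = toPerm q.1 → sameP q.1 pId = false := by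
    intro x q hq hx hxq
    refine Bool.eq_false_iff.2 fun hs => hx (perm_injective ?_)
    rw [hxq, map_one, (sameP_iff (hexAll_rep (mem_sixteen hq)) rep_one).1 hs]
  have hc := List.all_eq_true.1 (List.all_eq_true.1 transOk_check e he) f hf
  rw [hne he ha1 hea, hne hf hb1 hfb, Bool.false_or, Bool.false_or] at hc
  simp only [List.any_eq_true, Bool.and_eq_true] at hc
  obtain ⟨h, hh, k, hk, c, hcm, h1, h2⟩ := hc
  have rh := hexAll_rep (mem_wit hh)
  have rk := hexAll_rep (mem_wit hk)
  have rc := hexAll_rep (mem_sixteen hcm)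
  have e1 := word_eq (L := [h.1, c.1]) (M := [e.1, h.1]) (by simp [rh, rc])
    (by simp [rh, hexAll_rep (mem_sixteen he)]) h1
  have e2 := word_eq (L := [k.1, c.1]) (M := [f.1, k.1]) (by simp [rk, rc])
    (by simp [rk, hexAll_rep (mem_sixteen hf)]) h2
  simp only [List.map_cons, List.map_nil, List.prod_cons, List.prod_nil, mul_one] at e1 e2
  obtain ⟨hI, hT⟩ := wit_spec' hh
  obtain ⟨kI, kT⟩ := wit_spec' hk
  have hT' := mem_normalizer_of_maps' hT
  refine ⟨autOf (toPerm k.1) * (autOf (toPerm h.1))⁻¹, mul_mem kI (inv_mem hI), fun t ht => ?_,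
    perm_injective ?_⟩
  · have := kT _ ((Subgroup.mem_normalizer_iff.1 (inv_mem hT') t).1 ht)
    simpa [mul_assoc] using this
  · simp only [map_mul, map_inv, hexAll_perm (mem_wit hh), hexAll_perm (mem_wit hk), hea, hfb]
    calc toPerm k.1 * (toPerm h.1)⁻¹ * toPerm e.1 * (toPerm k.1 * (toPerm h.1)⁻¹)⁻¹
        = toPerm k.1 * (toPerm h.1)⁻¹ * (toPerm e.1 * toPerm h.1) * (toPerm k.1)⁻¹ := by group
      _ = toPerm k.1 * toPerm c.1 * (toPerm k.1)⁻¹ := by rw [← e1]; group
      _ = toPerm f.1 := by rw [e2]; group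
where
  mem_normalizer_of_maps' {a : A22} {H : Subgroup A22} (h : ∀ r ∈ H, a * r * a⁻¹ ∈ H) :
      a ∈ Subgroup.normalizer (H : Set A22) := by
    have e : H.map (MulAut.conj a).toMonoidHom = H :=
      Subgroup.eq_of_le_of_card_ge (by rintro _ ⟨r, hr, rfl⟩; exact h r hr) (by rw [card_map_conj])
    refine Subgroup.mem_normalizer_iff.2 fun r => ⟨h r, fun hr => ?_⟩
    rw [← e] at hr
    obtain ⟨q, hq, hqe⟩ := hr
    rwa [← (MulAut.conj a).injective hqe]

/-- The facts on the outer involutions. -/
def outerOk : Bool :=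
  (List.finRange 4).all fun i => !inM22 (outerAt i).1 && wordEq [(outerAt i).1, (outerAt i).1] [] &&
    mapsTo (outerAt i) sixteenList sixteenList && moveOk (outerAt i) &&
    outerH.any fun h => wordEq [h.1, (outerAt 0).1] [(outerAt i).1, h.1]

theorem outerOk_check : outerOk = true := by decide +kernel

theorem outer_spec (i : Fin 4) :
    hexS i ∉ inner ∧ hexS i * hexS i = 1 ∧ (∀ a ∈ hexT, hexS i * a * (hexS i)⁻¹ ∈ hexT) ∧
      (∀ a ∈ hexT, hexG⁻¹ * (hexS i * (hexG * a * hexG⁻¹) * (hexS i)⁻¹) * hexG ∈ hexT) ∧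
      ∃ h, h * hexS 0 * h⁻¹ = hexS i := by
  have hc := List.all_eq_true.1 outerOk_check i (List.mem_finRange i)
  simp only [Bool.and_eq_true, Bool.not_eq_true', List.any_eq_true] at hc
  obtain ⟨⟨⟨⟨h1, h2⟩, h3⟩, h4⟩, h, hh, h5⟩ := hc
  have hm := outer_mem_all i
  have he := List.all_eq_true.1 hexAll_ok _ hm
  rw [Bool.and_eq_true] at he
  have hr := hexAll_rep hm
  refine ⟨fun hin => ?_, perm_injective ?_, fun a ha => hexT_conj hm h3 he.1 ha,
    fun a ha => move_spec hm h4 ha, autOf (toPerm h.1), perm_injective ?_⟩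
  · have := (inM22_iff (elem_spec he.1).1 hr).2 (by rw [← perm_hexS]; exact mem_inner_iff.1 hin)
    rw [h1] at this
    exact Bool.noConfusion this
  · rw [map_mul, perm_hexS, map_one]
    simpa using word_eq (L := [(outerAt i).1, (outerAt i).1]) (M := []) (by simp [hr]) (by simp) h2
  · have hrh := hexAll_rep (outerH_mem hh)
    have hw := word_eq (L := [h.1, (outerAt 0).1]) (M := [(outerAt i).1, h.1])
      (by simp [hrh, hexAll_rep (outer_mem_all 0)]) (by simp [hrh, hr]) h5
    simp only [List.map_cons, List.map_nil, List.prod_cons, List.prod_nil, mul_one] at hw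
    rw [map_mul, map_mul, map_inv, perm_hexS, perm_hexS, hexAll_perm (outerH_mem hh), hw, mul_inv_cancel_right]

/-- Involutions in the coset of the first one are conjugate to it. -/
def cosetOk : Bool :=
  sixteenList.all fun a => wordNe [(outerAt 0).1, a.1, (outerAt 0).1, a.1] [] ||
    sixteenList.any fun b => wordEq [b.1, (outerAt 0).1] [(outerAt 0).1, a.1, b.1]

theorem cosetOk_check : cosetOk = true := by decide +kernel

/-- The selection of a factor in a word. -/
def pickW (b : Bool) (w : List (ℕ × ℕ)) : List (ℕ × ℕ) := if b then w else []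

/-- The words in the four outer involutions. -/
def outerWord (i j k l : Bool) : List (ℕ × ℕ) :=
  pickW i [outerAt 0] ++ pickW j [outerAt 1, outerAt 2, outerAt 0, outerAt 2, outerAt 1] ++
    pickW k [outerAt 3] ++ pickW l [outerAt 1, outerAt 2]

/-- Nontrivial words lie outside the hexad group. -/
def meetOk : Bool :=
  [false, true].all fun i => [false, true].all fun j => [false, true].all fun k => [false, true].all fun l =>
    !(i || j || k || l) || sixteenList.all fun t => wordNe ((outerWord i j k l).map Prod.fst) [t.1]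

theorem meetOk_check : meetOk = true := by decide +kernel

/-- A member of the list for the fixed points of the group of order nine. -/
def fixAt (i : ℕ) : ℕ := nineFix.getD i 0

theorem nineFix_check :
    ((nineList.map Prod.fst).contains (fixAt 0) && (nineList.map Prod.fst).contains (fixAt 1) &&
      (sixteenList.map Prod.fst).contains (fixAt 2) && (sixteenList.map Prod.fst).contains (fixAt 3) &&
      !sameP (fixAt 0) pId && !sameP (fixAt 1) pId && !sameP (fixAt 2) pId && !sameP (fixAt 3) pId &&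
      wordNe [fixAt 1] [] && wordNe [fixAt 1] [fixAt 0] && wordNe [fixAt 1] [fixAt 0, fixAt 0] &&
      commutes (fixAt 0) (fixAt 2) && commutes (fixAt 1) (fixAt 3)) = true := by decide +kernel

theorem R_fix' : ∃ y₁ ∈ nineR.comap perm, ∃ y₂ ∈ nineR.comap perm, y₁ ≠ 1 ∧ y₂ ≠ 1 ∧
    (∀ n : ℕ, y₂ ≠ y₁ ^ n) ∧ (∃ u ∈ hexT, u ≠ 1 ∧ Commute y₁ u) ∧ ∃ u ∈ hexT, u ≠ 1 ∧ Commute y₂ u := by
  have h := nineFix_check
  simp only [Bool.and_eq_true, List.contains_iff_mem, Bool.not_eq_true'] at h
  obtain ⟨⟨⟨⟨⟨⟨⟨⟨⟨⟨⟨⟨m0, m1⟩, m2⟩, m3⟩, n0⟩, n1⟩, n2⟩, n3⟩, w0⟩, w1⟩, w2⟩, c1⟩, c2⟩ := h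
  have memAll : ∀ {L : List (ℕ × ℕ)}, (∀ e ∈ L, e ∈ hexAll) → ∀ {p : ℕ}, p ∈ L.map Prod.fst →
      Rep (toPerm p) p ∧ perm (autOf (toPerm p)) = toPerm p := fun hL p hp => by
    obtain ⟨e, he, rfl⟩ := List.mem_map.1 hp
    exact ⟨hexAll_rep (hL e he), hexAll_perm (hL e he)⟩
  obtain ⟨r0, p0⟩ := memAll (fun e he => mem_nine he) m0
  obtain ⟨r1, p1⟩ := memAll (fun e he => mem_nine he) m1
  obtain ⟨r2, p2⟩ := memAll (fun e he => mem_sixteen he) m2
  obtain ⟨r3, p3⟩ := memAll (fun e he => mem_sixteen he) m3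
  have hne : ∀ {p : ℕ}, Rep (toPerm p) p → perm (autOf (toPerm p)) = toPerm p → sameP p pId = false →
      autOf (toPerm p) ≠ 1 := fun hr hp hs e => by
    rw [(sameP_iff hr rep_one).2 (by rw [← hp, e, map_one])] at hs
    exact Bool.noConfusion hs
  refine ⟨autOf (toPerm (fixAt 0)), ⟨_, m0, by rw [p0]; exact r0⟩, autOf (toPerm (fixAt 1)),
    ⟨_, m1, by rw [p1]; exact r1⟩, hne r0 p0 n0, hne r1 p1 n1, fun n e => ?_,
    ⟨autOf (toPerm (fixAt 2)), ⟨_, m2, by rw [p2]; exact r2⟩, hne r2 p2 n2, ?_⟩,
    ⟨autOf (toPerm (fixAt 3)), ⟨_, m3, by rw [p3]; exact r3⟩, hne r3 p3 n3, ?_⟩⟩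
  · have h3 : toPerm (fixAt 0) ^ 3 = 1 := threeR_cube' r0 m0
    have e' := congrArg perm e
    rw [map_pow, p0, p1, pow_eq_pow_mod n h3] at e'
    rcases (show n % 3 = 0 ∨ n % 3 = 1 ∨ n % 3 = 2 by omega) with h | h | h <;> rw [h] at e'
    · exact word_ne (by simp [r1]) (by simp) w0 (by simpa using e')
    · exact word_ne (by simp [r1]) (by simp [r0]) w1 (by simpa using e')
    · exact word_ne (by simp [r1]) (by simp [r0]) w2 (by simpa [pow_two] using e')
  · exact perm_injective (by simpa [p0, p2] using ((commutes_iff r0 r2).1 c1).symm.eq)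
  · exact perm_injective (by simpa [p1, p3] using ((commutes_iff r1 r3).1 c2).symm.eq)
where
  threeR_cube' {p : ℕ} (hr : Rep (toPerm p) p) (hp : p ∈ nineList.map Prod.fst) : toPerm p ^ 3 = 1 := by
    have hc : (nineList.all fun e => wordEq [e.1, e.1, e.1] []) = true := by decide +kernel
    obtain ⟨e, he, rfl⟩ := List.mem_map.1 hp
    simpa [pow_succ, mul_assoc] using
      word_eq (L := [e.1, e.1, e.1]) (M := []) (by simp [hr]) (by simp) (List.all_eq_true.1 hc e he)

theorem sylWords_check :
    ((sylWords.flatten ++ [sylCentre]).all fun p => (FusionSys.MathieuCert.certM22.t.find p).isSome) &&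
      (sylWords.flatten.all fun p => wordEq [p, p] []) &&
      (FusionSys.MathieuCert.certM22.gp.all fun g => wordEq [sylCentre, g] [g, sylCentre] &&
        sylWords.any fun w => wordEq w [g]) &&
      wordEq [sylCentre, sylCentre] [] && !sameP sylCentre pId = true := by decide +kernel

theorem cent_gen' : ∃ t ∈ inner, orderOf t = 2 ∧ ∃ Q : Subgroup A22, Q ≤ inner ∧ Nat.card ↥Q = 128 ∧
    (∀ a ∈ Q, Commute t a) ∧ Q ≤ Subgroup.closure {a | a ∈ Q ∧ a * a = 1} := by
  have h := sylWords_check
  simp only [Bool.and_eq_true, List.all_eq_true, List.any_eq_true, Bool.not_eq_true'] at h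
  obtain ⟨⟨⟨⟨hkey, hinv⟩, hgp⟩, hz2⟩, hzne⟩ := h
  have hmem : ∀ p ∈ sylWords.flatten ++ [sylCentre], Rep (toPerm p) p ∧ toPerm p ∈ sylTwo := by
    intro p hp
    have hk := hkey p hp
    cases hf : FusionSys.MathieuCert.certM22.t.find p with
    | none => rw [hf] at hk; simp at hk
    | some e =>
      have hx := FusionSys.MathieuCert.KT.find_mem hf
      obtain ⟨h1, -, h3⟩ := FusionSys.MathieuCert.Cert.node_spec hokM22 FusionSys.MathieuCert.certM22_genOK
        FusionSys.MathieuCert.certM22_treeOK hx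
      exact ⟨h1, h3.1⟩
  obtain ⟨rc, hc⟩ := hmem _ (List.mem_append_right _ (List.mem_singleton_self _))
  have hgr : ∀ g ∈ FusionSys.MathieuCert.certM22.gp, Rep (toPerm g) g := fun g hg =>
    (FusionSys.MathieuCert.Cert.gp_rep hokM22 FusionSys.MathieuCert.certM22_genOK hg).1
  refine ⟨autOf (toPerm sylCentre), mem_inner_iff.2 ?_, orderOf_eq_prime (perm_injective ?_) fun e => ?_,
    sylTwo.comap perm, fun a ha => mem_inner_iff.2 (sylTwo_le ha), ?_, fun a ha => perm_injective ?_, ?_⟩
  · rw [perm_autOf (sporM22_le_Pair (sylTwo_le hc))]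
    exact sylTwo_le hc
  · rw [pow_two, map_mul, perm_autOf (sporM22_le_Pair (sylTwo_le hc)), map_one]
    simpa using word_eq (L := [sylCentre, sylCentre]) (M := []) (by simp [rc]) (by simp) hz2
  · rw [(sameP_iff rc rep_one).2 (by rw [← perm_autOf (sporM22_le_Pair (sylTwo_le hc)), e, map_one])] at hzne
    exact Bool.noConfusion hzne
  · rw [show (128:ℕ) = 2 ^ 7 from rfl, ← card_sylTwo, Nat.card_congr ((sylTwo.comap perm).equivMapOfInjective perm perm_injective).toEquiv,
      Subgroup.map_comap_eq_self fun g hg => exists_perm (sporM22_le_Pair (sylTwo_le hg))]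
  · have hle : sylTwo ≤ Subgroup.centralizer ({toPerm sylCentre} : Set (Equiv.Perm GolayPt)) := by
      refine (Subgroup.closure_le _).2 ?_
      rintro _ ⟨g, hg, rfl⟩
      refine Subgroup.mem_centralizer_singleton_iff.2 ?_
      have := word_eq (L := [sylCentre, g]) (M := [g, sylCentre]) (by simp [rc, hgr g hg])
        (by simp [rc, hgr g hg]) (hgp g hg).1
      simpa using this.symm
    have := Subgroup.mem_centralizer_singleton_iff.1 (hle ha)
    rw [map_mul, map_mul, perm_autOf (sporM22_le_Pair (sylTwo_le hc))]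
    exact this.symm
  · intro a ha
    have hle : sylTwo ≤ (Subgroup.closure {a | a ∈ sylTwo.comap perm ∧ a * a = 1}).map perm := by
      refine (Subgroup.closure_le _).2 ?_
      rintro _ ⟨g, hg, rfl⟩
      obtain ⟨w, hw, hwg⟩ := (hgp g hg).2
      have hwm : ∀ p ∈ w, p ∈ sylWords.flatten := fun p hp => List.mem_flatten.2 ⟨w, hw, hp⟩
      have e := word_eq (fun p hp => (hmem p (List.mem_append_left _ (hwm p hp))).1)
        (M := [g]) (by simp [hgr g hg]) hwg
      rw [List.map_singleton, List.prod_singleton] at e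
      rw [← e]
      refine Subgroup.list_prod_mem _ fun x hx => ?_
      obtain ⟨p, hp, rfl⟩ := List.mem_map.1 hx
      obtain ⟨hr, hs⟩ := hmem p (List.mem_append_left _ (hwm p hp))
      refine ⟨autOf (toPerm p), Subgroup.subset_closure ⟨?_, perm_injective ?_⟩,
        perm_autOf (sporM22_le_Pair (sylTwo_le hs))⟩
      · show perm _ ∈ sylTwo
        rw [perm_autOf (sporM22_le_Pair (sylTwo_le hs))]
        exact hs
      · rw [map_mul, perm_autOf (sporM22_le_Pair (sylTwo_le hs)), map_one]
        simpa using word_eq (L := [p, p]) (M := []) (by simp [hr]) (by simp) (hinv p (hwm p hp))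
    obtain ⟨b, hb, hba⟩ := hle ha
    exact perm_injective hba ▸ hb

/-- The hexad data. -/
noncomputable def hexData : HexData A22 inner where
  T := hexT
  R := nineR.comap perm
  g := hexG
  five := autOf (toPerm normFive.1)
  s := hexS
  T_le a ha := mem_inner_iff.2 (sixteenT_le ha)
  R_le a ha := mem_inner_iff.2 (nineR_le ha)
  card_T := by
    rw [← card_sixteenT, hexT,
      Nat.card_congr ((sixteenT.comap perm).equivMapOfInjective perm perm_injective).toEquiv,
      Subgroup.map_comap_eq_self fun g hg => exists_perm (sporM22_le_Pair (sixteenT_le hg))]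
  T_sq a ha := perm_injective (by rw [map_mul, sixteenT_sq ha, map_one])
  card_R := by
    rw [← card_nineR, Nat.card_congr ((nineR.comap perm).equivMapOfInjective perm perm_injective).toEquiv,
      Subgroup.map_comap_eq_self fun g hg => exists_perm (sporM22_le_Pair (nineR_le hg))]
  R_T r hr a ha := by
    show perm (r * a * r⁻¹) ∈ sixteenT
    rw [map_mul, map_mul, map_inv]
    exact nineR_norm hr ha
  five_mem := mem_inner_iff.2 (by
    rw [hexAll_perm five_mem_all]
    exact elemOk_mem_M22 (by decide +kernel))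
  five_ord := five_order
  five_T a ha := hexT_conj five_mem_all (by decide +kernel) (by decide +kernel) ha
  trans a ha ha1 b hb hb1 := hex_trans ha ha1 hb hb1
  g_mem := mem_inner_iff.2 (by
    rw [hexG, hexAll_perm g_mem_all]
    exact elemOk_mem_M22 (by decide +kernel))
  R_conj r hr a ha := by
    obtain ⟨p, hp, hrp⟩ := hr
    obtain ⟨x, hx, rfl⟩ := List.mem_map.1 hp
    have e : r = autOf (toPerm x.1) := perm_injective (by
      rw [hexAll_perm (mem_nine hx)]; exact (toPerm_eq hrp).symm)
    rw [e]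
    exact move_spec (mem_nine hx) (List.all_eq_true.1
      (show (nineList.all moveOk) = true by decide +kernel) x hx) ha
  meet a ha hga := by
    obtain ⟨e, he, hea⟩ := exists_sixteen ha
    obtain ⟨f, hf, hfa⟩ := exists_sixteen hga
    rw [map_mul, map_mul, map_inv, hexG, hexAll_perm g_mem_all, hea, mul_inv_eq_iff_eq_mul] at hfa
    have hc : (sixteenList.all fun e => sameP e.1 pId ||
        sixteenList.all fun f => wordNe [moveG.1, e.1] [f.1, moveG.1]) = true := by decide +kernel
    have hc' := List.all_eq_true.1 hc e he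
    rw [Bool.or_eq_true] at hc'
    rcases hc' with h | h
    · exact perm_injective (by rw [hea, map_one, (sameP_iff (hexAll_rep (mem_sixteen he)) rep_one).1 h])
    · refine absurd ?_ (word_ne (by simp [hexAll_rep g_mem_all, hexAll_rep (mem_sixteen he)])
        (by simp [hexAll_rep g_mem_all, hexAll_rep (mem_sixteen hf)]) (List.all_eq_true.1 h f hf))
      simpa using hfa
  s_out i := (outer_spec i).1
  s_sq i := (outer_spec i).2.1
  s_T i := (outer_spec i).2.2.1
  s_conj_T i := (outer_spec i).2.2.2.1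
  s_conj i := (outer_spec i).2.2.2.2
  s_coset a ha h2 := by
    obtain ⟨e, he, hea⟩ := exists_sixteen ha
    have hc := List.all_eq_true.1 cosetOk_check e he
    have r0 := hexAll_rep (outer_mem_all 0)
    have re := hexAll_rep (mem_sixteen he)
    rw [Bool.or_eq_true] at hc
    rcases hc with h | h
    · refine absurd ?_ (word_ne (by simp [r0, re]) (by simp) h)
      have := congrArg perm h2
      simp only [map_mul, map_one, perm_hexS, hea] at this
      simpa [mul_assoc] using this
    · obtain ⟨b, hb, hw⟩ := List.any_eq_true.1 h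
      have rb := hexAll_rep (mem_sixteen hb)
      have hw' := word_eq (L := [b.1, (outerAt 0).1]) (M := [(outerAt 0).1, e.1, b.1]) (by simp [r0, rb])
        (by simp [r0, re, rb]) hw
      simp only [List.map_cons, List.map_nil, List.prod_cons, List.prod_nil, mul_one] at hw'
      refine ⟨autOf (toPerm b.1), ⟨b.1, List.mem_map.2 ⟨b, hb, rfl⟩, by
        rw [hexAll_perm (mem_sixteen hb)]; exact rb⟩, perm_injective ?_⟩
      rw [map_mul, map_mul, map_inv, map_mul, perm_hexS, hea, hexAll_perm (mem_sixteen hb), hw']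
      group
  comm12 := commute_of_word (by decide +kernel)
  comm3 i := commute_of_word (by revert i; decide +kernel)
  comm_conj := by
    refine perm_injective ?_
    simp only [map_mul, map_inv, perm_hexS, mul_inv_rev]
    have r := fun i => hexAll_rep (outer_mem_all i)
    have hs : ∀ i, (toPerm (outerAt i).1)⁻¹ = toPerm (outerAt i).1 := fun i => by
      have := congrArg perm ((outer_spec i).2.1)
      rw [map_mul, map_one, perm_hexS] at this
      exact inv_eq_of_mul_eq_one_right this
    rw [hs, hs]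
    have hw := word_eq
      (L := [(outerAt 0).1, (outerAt 1).1, (outerAt 2).1, (outerAt 0).1, (outerAt 2).1, (outerAt 1).1])
      (M := [(outerAt 1).1, (outerAt 2).1, (outerAt 0).1, (outerAt 2).1, (outerAt 1).1, (outerAt 0).1])
      (by simp [r]) (by simp [r]) (by decide +kernel)
    simpa [mul_assoc] using hw
  R_fix := R_fix'
  cent_gen := cent_gen'
  s_meet i j k l hm := by
    obtain ⟨e, he, hea⟩ := exists_sixteen hm
    have hc := meetOk_check
    simp only [meetOk, List.all_eq_true] at hc
    have hc' := hc i (by cases i <;> simp) j (by cases j <;> simp) k (by cases k <;> simp) l (by cases l <;> simp)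
    by_contra hne
    have hor : (i || j || k || l) = true := by revert hne; cases i <;> cases j <;> cases k <;> cases l <;> simp
    rw [hor, Bool.not_true, Bool.false_or] at hc'
    refine word_ne (fun x hx => ?_) (by simp [hexAll_rep (mem_sixteen he)]) (List.all_eq_true.1 hc' e he) ?_
    · obtain ⟨y, hy, rfl⟩ := List.mem_map.1 hx
      refine hexAll_rep ?_
      simp only [outerWord, List.mem_append, pickW] at hy
      rcases hy with ((h | h) | h) | h <;> split_ifs at h <;>
        simp only [List.mem_cons, List.not_mem_nil, or_false] at h <;>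
        rcases h with rfl | rfl | rfl | rfl | rfl <;> exact outer_mem_all _
    · have hs : ∀ i, (hexS i)⁻¹ = hexS i := fun i => inv_eq_of_mul_eq_one_right (outer_spec i).2.1
      have hs' : ∀ i, (toPerm (outerAt i).1)⁻¹ = toPerm (outerAt i).1 := fun i => by
        rw [← perm_hexS, ← map_inv, hs]
      have hsq : ∀ i, toPerm (outerAt i).1 * toPerm (outerAt i).1 = 1 := fun i => by
        rw [← perm_hexS, ← map_mul, (outer_spec i).2.1, map_one]
      have hsq' : ∀ i x, toPerm (outerAt i).1 * (toPerm (outerAt i).1 * x) = x := fun i x => by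
        rw [← mul_assoc, hsq, one_mul]
      rw [List.map_singleton, List.prod_singleton, ← hea]
      cases i <;> cases j <;> cases k <;> cases l <;>
        simp [outerWord, pickW, pickB, perm_hexS, hs', mul_assoc, hsq, hsq']
where
  commute_of_word {i j : Fin 4} (h : wordEq [(outerAt i).1, (outerAt j).1] [(outerAt j).1, (outerAt i).1] = true) :
      Commute (hexS i) (hexS j) := perm_injective (by
    have r := fun i => hexAll_rep (outer_mem_all i)
    simpa [perm_hexS] using word_eq (by simp [r]) (by simp [r]) h)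

end Cfsg.Lib.JankoFour.AutM22
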