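import Cfsg.Agent.Lib.JankoFour.AutM22

/-!
# The elementary abelian subgroups of order sixteen of M22

There is one normalized by a group of order nine, and a 2-subgroup contains at most two of them.
-/

set_option autoImplicit false

namespace Cfsg.Lib.JankoFour

/-- What is used about the elementary abelian subgroups of order sixteen. -/
structure Sixteen (A : Type) [Group A] (I : Subgroup A) : Prop where
  hexad : ∃ T R : Subgroup A, T ≤ I ∧ R ≤ I ∧ Nat.card ↥T = 16 ∧ (∀ a ∈ T, a * a = 1) ∧ Nat.card ↥R = 9 ∧
    ∀ r ∈ R, ∀ a ∈ T, r * a * r⁻¹ ∈ T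
  two : ∀ S : Subgroup A, S ≤ I → IsPGroup 2 ↥S → ∀ T₁ T₂ T₃ : Subgroup A, T₁ ≤ S → T₂ ≤ S → T₃ ≤ S →
    (∀ a ∈ T₁, a * a = 1) → (∀ a ∈ T₂, a * a = 1) → (∀ a ∈ T₃, a * a = 1) →
    Nat.card ↥T₁ = 16 → Nat.card ↥T₂ = 16 → Nat.card ↥T₃ = 16 → T₁ = T₂ ∨ T₁ = T₃ ∨ T₂ = T₃

namespace AutM22

open Cfsg Cfsg.Lib.Concrete Cfsg.Lib.JankoFour.M22Cert
open Cfsg.Lib.FusionSys.MathieuCert (toPerm toPerm_eq pcode certM22 Cert.grp)
open Cfsg.Lib.FusionSys

/-- An elementary abelian subgroup of order sixteen. -/
def sixteenList : List (ℕ × ℕ) :=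
  [(957112457953793621141885569063946944, 957112457953793621141885569063946944),
   (959546351950136666614391865463212256, 959546351950136666614391865463212256),
   (961290644579918423623017798904023552, 961290644579918423623017798904023552),
   (963318869231191903434655894521678400, 963318869231191903434655894521678400),
   (965225440455222644818899279096612960, 965225440455222644818899279096612960),
   (967699887815422844247907960623761856, 967699887815422844247907960623761856),
   (968430038969390081090151296222694048, 968430038969390081090151296222694048),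
   (970255473224841532599413141470185952, 970255473224841532599413141470185952),
   (971634673966735795557231856693217824, 971634673966735795557231856693217824),
   (974027984896326309032851386650724640, 974027984896326309032851386650724640),
   (975244939339028219789008176466233696, 975244939339028219789008176466233696),
   (976664704469768708257102621150906496, 976664704469768708257102621150906496),
   (977638263056307851044960616645429632, 977638263056307851044960616645429632),
   (979058044919376233696864631194454208, 979058044919376233696864631194454208),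
   (983560721015008637503747928712481088, 983560721015008637503747928712481088),
   (984818244535754528103549039458486304, 984818244535754528103549039458486304)]

/-- A group of order nine normalizing it. -/
def nineList : List (ℕ × ℕ) :=
  [(984818244535754528103549039458486304, 984818244535754528103549039458486304),
   (983357901325852228829475680595320928, 978368434720102844195586120590865760),
   (959730206793793533184658256045744416, 974228994255960741045973150031623712),
   (978368434720102844195586120590865760, 983357901325852228829475680595320928),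
   (969709156105333750316308025846543808, 967657503708909966074812835603980960),
   (956809534009529412798266529512983040, 976541195321523491530712329161968320),
   (974228994255960741045973150031623712, 959730206793793533184658256045744416),
   (967657503708909966074812835603980960, 969709156105333750316308025846543808),
   (976541195321523491530712329161968320, 956809534009529412798266529512983040)]

/-- The elementary abelian subgroup. -/
def sixteenT : Subgroup (Equiv.Perm GolayPt) :=
  listGroup sixteenList ⟨Cfsg.Lib.Concrete.pId, by decide +kernel, rep_one⟩ (by decide +kernel)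

/-- The group of order nine normalizing it. -/
def nineR : Subgroup (Equiv.Perm GolayPt) :=
  listGroup nineList ⟨Cfsg.Lib.Concrete.pId, by decide +kernel, rep_one⟩ (by decide +kernel)

theorem sixteenT_le : sixteenT ≤ Spor.M22 := fun _ hg => listSet_le_M22 (by decide +kernel) hg

theorem nineR_le : nineR ≤ Spor.M22 := fun _ hg => listSet_le_M22 (by decide +kernel) hg

theorem card_sixteenT : Nat.card sixteenT = 16 := listGroup_card (by decide +kernel) (by decide +kernel)

theorem card_nineR : Nat.card nineR = 9 := listGroup_card (by decide +kernel) (by decide +kernel)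

theorem sixteenT_sq {g : Equiv.Perm GolayPt} (hg : g ∈ sixteenT) : g * g = 1 := by
  obtain ⟨p, hp, hr⟩ := hg
  have h : ((sixteenList.map Prod.fst).all fun p => prodCheck p p pId) = true := by decide +kernel
  exact (hr.mul hr (List.all_eq_true.1 h p hp)).ext rep_one

theorem nineR_norm {r g : Equiv.Perm GolayPt} (hr : r ∈ nineR) (hg : g ∈ sixteenT) :
    r * g * r⁻¹ ∈ sixteenT := by
  obtain ⟨p, hp, hrp⟩ := hr
  obtain ⟨q, hq, hgq⟩ := hg
  have h : ((nineList.map Prod.fst).all fun p => (sixteenList.map Prod.fst).all fun q =>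
      (sixteenList.map Prod.fst).any fun q' => moves q q' p) = true := by decide +kernel
  obtain ⟨q', hq', hm⟩ := List.any_eq_true.1 (List.all_eq_true.1 (List.all_eq_true.1 h p hp) q hq)
  obtain ⟨e, he, rfl⟩ := List.mem_map.1 hq'
  have hL : sixteenList.all elemOk = true := by decide +kernel
  obtain ⟨-, her, -, -⟩ := elem_spec (List.all_eq_true.1 hL e he)
  refine ⟨e.1, List.mem_map.2 ⟨e, he, rfl⟩, ?_⟩
  rwa [mul_inv_eq_iff_eq_mul.2 ((moves_iff hgq her hrp).1 hm)]

/-- The pairwise commuting sublists of a given length (first argument: fuel). -/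
def cliques : ℕ → ℕ → List ℕ → List (List ℕ)
  | _, 0, _ => [[]]
  | 0, _ + 1, _ => []
  | _ + 1, _ + 1, [] => []
  | f + 1, n + 1, p :: r =>
    if Nat.blt r.length n then [] else
      (cliques f n (r.filter fun q => moves p p q)).map (fun c => p :: c) ++ cliques f (n + 1) r

theorem subset_image {E : Set (Equiv.Perm GolayPt)} {L : List ℕ} (hE : ∀ g ∈ E, ∃ p ∈ L, Rep g p) :
    E ⊆ toPerm '' ↑L.toFinset := fun g hg => by
  obtain ⟨p, hp, hr⟩ := hE g hg
  exact ⟨p, List.mem_toFinset.2 hp, toPerm_eq hr⟩

theorem ncard_le_length {E : Set (Equiv.Perm GolayPt)} {L : List ℕ} (hE : ∀ g ∈ E, ∃ p ∈ L, Rep g p) :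
    E.ncard ≤ L.length := by
  refine (Set.ncard_le_ncard (subset_image hE) (L.toFinset.finite_toSet.image _)).trans ?_
  refine (Set.ncard_image_le L.toFinset.finite_toSet).trans ?_
  rw [Set.ncard_coe_finset]
  exact List.toFinset_card_le L

theorem cliques_spec : ∀ (f n : ℕ) (L : List ℕ), L.length ≤ f →
    ∀ E : Set (Equiv.Perm GolayPt), E.ncard = n → (∀ g ∈ E, ∀ h ∈ E, Commute g h) →
      (∀ g ∈ E, ∃ p ∈ L, Rep g p) → ∃ c ∈ cliques f n L, c.length = n ∧ ∀ g ∈ E, ∃ p ∈ c, Rep g p
  | f, 0, L, _, E, hn, _, _ => by
    refine ⟨[], by cases f <;> simp [cliques], rfl, fun g hg => ?_⟩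
    rw [Set.ncard_eq_zero] at hn
    simp [hn] at hg
  | 0, n + 1, L, hf, E, hn, _, hE => by
    have := ncard_le_length hE
    omega
  | f + 1, n + 1, [], _, E, hn, _, hE => by
    have := ncard_le_length hE
    simp at this
    omega
  | f + 1, n + 1, p :: r, hf, E, hn, hc, hE => by
    have hlen := ncard_le_length hE
    simp only [List.length_cons] at hlen hf
    have hb : Nat.blt r.length n = false := by
      rw [Bool.eq_false_iff, ne_eq, Nat.blt_eq]
      omega
    simp only [cliques, hb, Bool.false_eq_true, if_false, List.mem_append, List.mem_map]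
    by_cases hp : ∃ g ∈ E, Rep g p
    · obtain ⟨g, hg, hgp⟩ := hp
      obtain ⟨c, hcm, hcl, hcE⟩ := cliques_spec f n (r.filter fun q => moves p p q)
        ((List.length_filter_le _ r).trans (by omega)) (E \ {g})
        (by rw [Set.ncard_sdiff_singleton_of_mem hg]; omega)
        (fun x hx y hy => hc x hx.1 y hy.1) (fun x hx => by
          obtain ⟨q, hq, hxq⟩ := hE x hx.1
          rcases List.mem_cons.1 hq with rfl | hq
          · exact absurd (hxq.ext hgp) hx.2
          · exact ⟨q, List.mem_filter.2 ⟨hq, (moves_iff hgp hgp hxq).2 (hc x hx.1 g hg)⟩, hxq⟩)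
      refine ⟨p :: c, Or.inl ⟨c, hcm, rfl⟩, by simp [hcl], fun x hx => ?_⟩
      by_cases hxg : x = g
      · exact ⟨p, List.mem_cons_self, hxg ▸ hgp⟩
      · obtain ⟨q, hq, hxq⟩ := hcE x ⟨hx, hxg⟩
        exact ⟨q, List.mem_cons_of_mem _ hq, hxq⟩
    · obtain ⟨c, hcm, hcl, hcE⟩ := cliques_spec f (n + 1) r (by omega) E hn hc fun x hx => by
        obtain ⟨q, hq, hxq⟩ := hE x hx
        rcases List.mem_cons.1 hq with rfl | hq
        · exact absurd ⟨x, hx, hxq⟩ hp
        · exact ⟨q, hq, hxq⟩
      exact ⟨c, Or.inr hcm, hcl, hcE⟩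

theorem cliques_le_two : (cliques 40 15 (invWit.map fun w => w.1.1)).length ≤ 2 := by decide +kernel

theorem invWit_length : (invWit.map fun w => w.1.1).length ≤ 40 := by decide +kernel

/-- An involution of the Sylow subgroup is among the listed ones. -/
theorem exists_invWit {u : Equiv.Perm GolayPt} (hu : u ∈ sylTwo) (h2 : u * u = 1) (hne : u ≠ 1) :
    ∃ p ∈ invWit.map (fun w => w.1.1), Rep u p := by
  obtain ⟨p, hp, hr⟩ := sylTwo_key hu
  have hk := List.all_eq_true.1 invWit_complete p hp
  simp only [Bool.or_eq_true, Bool.not_eq_true'] at hk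
  rcases hk with (hk | hk) | hk
  · exfalso
    rw [← Bool.not_eq_true, List.all_eq_true] at hk
    refine hk fun i hi => ?_
    rw [Nat.beq_eq, ← hr.apply ⟨i, mem_bits24.1 hi⟩, ← hr, ← Equiv.Perm.mul_apply, h2,
      Equiv.Perm.one_apply, gidx_gpt]
  · exfalso
    simp only [List.all_eq_true, Nat.beq_eq] at hk
    refine hne (Equiv.ext fun z => gidx_injective (Fin.ext ?_))
    rw [hr, hk _ (mem_bits24.2 (gidx z).isLt), Equiv.Perm.one_apply]
  · obtain ⟨w, hw, hwp⟩ := List.any_eq_true.1 hk
    have hwk := List.all_eq_true.1 invWit_check w hw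
    simp only [witOk, Bool.and_eq_true] at hwk
    have hue : u = toPerm w.1.1 := (sameP_iff hr (elem_spec hwk.1.1.1).2.1).1 hwp
    exact ⟨w.1.1, List.mem_map.2 ⟨w, hw, rfl⟩, hue ▸ (elem_spec hwk.1.1.1).2.1⟩

/-- A 2-subgroup has at most two elementary abelian subgroups of order sixteen. -/
theorem two_sixteen {S : Subgroup (Equiv.Perm GolayPt)} (hS : S ≤ Spor.M22) (hp : IsPGroup 2 S)
    (T : Fin 3 → Subgroup (Equiv.Perm GolayPt)) (hT : ∀ i, T i ≤ S) (h2 : ∀ i, ∀ a ∈ T i, a * a = 1)
    (hc : ∀ i, Nat.card ↥(T i) = 16) : ∃ i j, i ≠ j ∧ T i = T j := by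
  obtain ⟨c, -, hcS⟩ := exists_conj_le sylTwo_le card_sylTwo fact_two hS hp
  set f : Equiv.Perm GolayPt → Equiv.Perm GolayPt := fun g => c * g * c⁻¹
  have hf : Function.Injective f := (MulAut.conj c).injective
  set E : Fin 3 → Set (Equiv.Perm GolayPt) := fun i => f '' ((T i : Set (Equiv.Perm GolayPt)) \ {1})
  have hcomm : ∀ i, ∀ a ∈ T i, ∀ b ∈ T i, Commute a b := fun i a ha b hb => by
    have h := h2 i _ ((T i).mul_mem ha hb)
    have ea : a⁻¹ = a := inv_eq_of_mul_eq_one_right (h2 i a ha)
    have eb : b⁻¹ = b := inv_eq_of_mul_eq_one_right (h2 i b hb)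
    show a * b = b * a
    rw [← inv_eq_of_mul_eq_one_right h, mul_inv_rev, ea, eb]
  have hn : ∀ i, (E i).ncard = 15 := fun i => by
    rw [Set.ncard_image_of_injective _ hf, Set.ncard_sdiff_singleton_of_mem (one_mem (T i)),
      ← Nat.card_coe_set_eq]
    show Nat.card ↥(T i) - 1 = 15
    rw [hc]
  have hk : ∀ i, ∃ l ∈ cliques 40 15 (invWit.map fun w => w.1.1), l.length = 15 ∧
      ∀ g ∈ E i, ∃ p ∈ l, Rep g p := fun i => by
    refine cliques_spec 40 15 _ invWit_length (E i) (hn i) ?_ ?_
    · rintro _ ⟨a, ha, rfl⟩ _ ⟨b, hb, rfl⟩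
      exact (hcomm i a ha.1 b hb.1).map (MulAut.conj c).toMonoidHom
    · rintro _ ⟨g, hg, rfl⟩
      refine exists_invWit (hcS g (hT i hg.1)) ?_ fun e => hg.2 (hf ?_)
      · show c * g * c⁻¹ * (c * g * c⁻¹) = 1
        rw [show c * g * c⁻¹ * (c * g * c⁻¹) = c * (g * g) * c⁻¹ by group, h2 i g hg.1]
        group
      · show f g = f 1
        rw [e]
        simp [f]
  choose l hl hll hlE using hk
  obtain ⟨i, j, hne, hij⟩ : ∃ i j, i ≠ j ∧ l i = l j := by
    classical
    by_contra hcon
    push Not at hcon
    have hi : Function.Injective l := fun a b e => by_contra fun h => hcon a b h e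
    have h3 := Finset.card_le_card_of_injOn (s := (Finset.univ : Finset (Fin 3))) l
      (t := (cliques 40 15 (invWit.map fun w => w.1.1)).toFinset)
      (fun a _ => List.mem_toFinset.2 (hl a)) hi.injOn
    have := List.toFinset_card_le (cliques 40 15 (invWit.map fun w => w.1.1))
    have := cliques_le_two
    simp at h3
    omega
  refine ⟨i, j, hne, ?_⟩
  have heq : ∀ k, E k = toPerm '' ↑(l k).toFinset := fun k =>
    Set.eq_of_subset_of_ncard_le (subset_image (hlE k)) (by
      refine (Set.ncard_image_le (l k).toFinset.finite_toSet).trans ?_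
      rw [Set.ncard_coe_finset, hn, ← hll k]
      exact List.toFinset_card_le _) ((l k).toFinset.finite_toSet.image _)
  have he : (T i : Set (Equiv.Perm GolayPt)) \ {1} = (T j : Set (Equiv.Perm GolayPt)) \ {1} :=
    hf.image_injective (show E i = E j by rw [heq, heq, hij])
  refine SetLike.coe_injective ?_
  rw [← Set.insert_eq_of_mem (one_mem (T i)), ← Set.insert_eq_of_mem (one_mem (T j)),
    ← Set.insert_sdiff_singleton, he, Set.insert_sdiff_singleton]

theorem sixteen : Sixteen A22 inner where
  hexad := by
    have hT : sixteenT ≤ perm.range := fun g hg => exists_perm (sporM22_le_Pair (sixteenT_le hg))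
    have hR : nineR ≤ perm.range := fun g hg => exists_perm (sporM22_le_Pair (nineR_le hg))
    refine ⟨sixteenT.comap perm, nineR.comap perm, fun a ha => mem_inner_iff.2 (sixteenT_le ha),
      fun a ha => mem_inner_iff.2 (nineR_le ha), ?_, fun a ha => perm_injective ?_, ?_, fun r hr a ha => ?_⟩
    · rw [← card_sixteenT, Nat.card_congr ((sixteenT.comap perm).equivMapOfInjective perm perm_injective).toEquiv,
        Subgroup.map_comap_eq_self hT]
    · rw [map_mul, sixteenT_sq ha, map_one]
    · rw [← card_nineR, Nat.card_congr ((nineR.comap perm).equivMapOfInjective perm perm_injective).toEquiv,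
        Subgroup.map_comap_eq_self hR]
    · show perm (r * a * r⁻¹) ∈ sixteenT
      rw [map_mul, map_mul, map_inv]
      exact nineR_norm hr ha
  two S hS hp T₁ T₂ T₃ l₁ l₂ l₃ s₁ s₂ s₃ c₁ c₂ c₃ := by
    obtain ⟨i, j, hne, hij⟩ := two_sixteen (S := S.map perm)
      (by rintro _ ⟨a, ha, rfl⟩; exact mem_inner_iff.1 (hS ha)) (hp.map perm)
      (![T₁.map perm, T₂.map perm, T₃.map perm])
      (fun i => by fin_cases i <;> exact Subgroup.map_mono ‹_›)
      (fun i => by
        fin_cases i
        · rintro _ ⟨a, ha, rfl⟩; rw [← map_mul, s₁ a ha, map_one]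
        · rintro _ ⟨a, ha, rfl⟩; rw [← map_mul, s₂ a ha, map_one]
        · rintro _ ⟨a, ha, rfl⟩; rw [← map_mul, s₃ a ha, map_one])
      (fun i => by
        fin_cases i <;>
          exact (Subgroup.card_map_of_injective perm_injective).trans ‹_›)
    have inj := Subgroup.map_injective perm_injective
    fin_cases i <;> fin_cases j <;>
      first
      | exact absurd rfl hne
      | exact Or.inl (inj hij)
      | exact Or.inl (inj hij.symm)
      | exact Or.inr (Or.inl (inj hij))
      | exact Or.inr (Or.inl (inj hij.symm))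
      | exact Or.inr (Or.inr (inj hij))
      | exact Or.inr (Or.inr (inj hij.symm))

end AutM22

end Cfsg.Lib.JankoFour
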